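import Cfsg.Agent.Lib.Fusion5248.Assembly
import Cfsg.Agent.Lib.Fusion5248.Shapes.SemiDihedral

/-!
Subgroups of one type that are all conjugate have normalisers of maximal order; the semidihedral case.
-/

set_option autoImplicit false

namespace CfsgLib.Fusion5248

open Subgroup

/-- A subgroup conjugate to all subgroups isomorphic to it has normaliser of the common order. -/
theorem sameNorm_of_isCj {T : Type*} [Group T] {E : Subgroup T}
    (h : ∀ R : Subgroup T, Nonempty (R ≃* E) → IsCj E R) : SameNorm E :=
  fun R hR => (h R hR).card_normalizer.ge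

namespace SemiDihedral

variable {T : Type*} [Group T] [Finite T]

/-- The four-groups and quaternion subgroups of a semidihedral group have maximal normalisers among
the isomorphic subgroups. -/
theorem sameNorm (h : Cfsg.IsQuasiDihedral T) (E : Subgroup T)
    (hE : IsKleinFour E ∨ Nonempty (E ≃* QuaternionGroup 2)) : SameNorm E := by
  refine sameNorm_of_isCj fun R hR => ?_
  obtain ⟨f⟩ := hR
  obtain ⟨E₁, E₂, -, -, -, hV, hQ⟩ := cover h
  rcases hE with hE | ⟨⟨q⟩⟩
  · have hR : IsKleinFour R := ⟨by rw [Nat.card_congr f.toEquiv, hE.card_four], by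
      rw [Monoid.exponent_eq_of_mulEquiv f, hE.exponent_two]⟩
    exact (IsCj.symm (hV E hE)).trans (hV R hR)
  · exact (IsCj.symm (hQ E ⟨q⟩)).trans (hQ R ⟨f.trans q⟩)

end SemiDihedral

end CfsgLib.Fusion5248
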